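import Mathlib.LinearAlgebra.ExteriorPower.Basic
import Mathlib.LinearAlgebra.Determinant
import Mathlib.LinearAlgebra.TensorPower.Basic
import Mathlib.RingTheory.Ideal.Span
import Mathlib.RingTheory.Ideal.Operations

/-!
Charts (approximate bases) of modules, lines (approximate generators) and the glueing of two
modules with compatible lines on a cover.
-/

open TensorProduct

namespace Groth.L15.DetChart

universe u v w

/-- An approximate basis: `g • id` factors through `ι → R`. -/
structure Chart (R : Type*) [CommRing R] (M : Type*) [AddCommGroup M] [Module R M]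
    (ι : Type*) [Fintype ι] [DecidableEq ι] where
  g : R
  x : ι → M
  f : M →ₗ[R] (ι → R)
  sum_smul : ∀ m, ∑ i, f m i • x i = g • m
  f_x : ∀ i j, f (x i) j = g * (if i = j then 1 else 0)

/-- An approximate generator: `c • id` factors through `R`. -/
structure Line (R : Type*) [CommRing R] (L : Type*) [AddCommMonoid L] [Module R L] where
  c : R
  s : L
  α : L →ₗ[R] R
  smul_s : ∀ l, α l • s = c • l
  α_s : α s = c

section Det

variable {R : Type*} [CommRing R] {M : Type*} [AddCommGroup M] [Module R M]

/-- An alternating map on `Fin N → R` is determined by its value on the standard basis. -/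
theorem alternating_eq_det_smul {N : ℕ} (a : (Fin N → R) [⋀^Fin N]→ₗ[R] M)
    (w : Fin N → Fin N → R) :
    a w = (Matrix.of w).det • a (fun i => Pi.single i 1) := by
  classical
  have h : a = (LinearMap.toSpanSingleton R M (a (fun i => Pi.single i 1))).compAlternatingMap
      (Matrix.detRowAlternating (R := R) (n := Fin N)) := by
    refine Module.Basis.ext_alternating (Pi.basisFun R (Fin N)) fun v hv => ?_
    obtain ⟨σ, rfl⟩ : ∃ σ : Equiv.Perm (Fin N), v = σ :=
      ⟨Equiv.ofBijective v (Finite.injective_iff_bijective.mp hv), rfl⟩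
    have e1 : (fun i => Pi.basisFun R (Fin N) (σ i)) =
        (fun i => Pi.single i (1 : R)) ∘ σ := by
      funext i
      simp
    rw [e1, AlternatingMap.map_perm, LinearMap.compAlternatingMap_apply,
      AlternatingMap.map_perm]
    simp only [LinearMap.toSpanSingleton_apply]
    have h1 : Matrix.detRowAlternating (R := R) (fun i : Fin N => Pi.single i (1 : R)) = 1 := by
      have : (fun i : Fin N => Pi.single i (1 : R)) = (1 : Matrix (Fin N) (Fin N) R) := by
        funext i j
        simp [Matrix.one_apply, Pi.single_apply, eq_comm]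
      rw [this]
      exact Matrix.det_one
    rw [h1, Units.smul_def, Units.smul_def, zsmul_eq_mul, mul_one]
    exact (Int.cast_smul_eq_zsmul R _ _).symm
  conv_lhs => rw [h]
  rfl

variable {ι : Type*} [Fintype ι] [DecidableEq ι]

/-- The coordinate map of a chart in a given numbering of the index type. -/
def Chart.coord (C : Chart R M ι) {N : ℕ} (e : Fin N ≃ ι) : M →ₗ[R] (Fin N → R) :=
  (LinearMap.funLeft R R e).comp C.f

/-- The determinant function attached to a chart. -/
noncomputable def Chart.wedgeα (C : Chart R M ι) {N : ℕ} (e : Fin N ≃ ι) : ⋀[R]^N M →ₗ[R] R :=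
  exteriorPower.alternatingMapLinearEquiv
    ((Matrix.detRowAlternating (R := R) (n := Fin N)).compLinearMap (C.coord e))

theorem Chart.wedgeα_ιMulti (C : Chart R M ι) {N : ℕ} (e : Fin N ≃ ι) (v : Fin N → M) :
    C.wedgeα e (exteriorPower.ιMulti R N v) =
      (Matrix.of fun i j => C.f (v i) (e j)).det := by
  rw [Chart.wedgeα, exteriorPower.alternatingMapLinearEquiv_apply_ιMulti]
  rfl

/-- The top exterior power of a chart is a line. -/
noncomputable def Chart.wedge (C : Chart R M ι) {N : ℕ} (e : Fin N ≃ ι) :
    Line R (⋀[R]^N M) where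
  c := C.g ^ N
  s := exteriorPower.ιMulti R N (C.x ∘ e)
  α := C.wedgeα e
  smul_s l := by
    suffices h : (C.wedgeα e).smulRight (exteriorPower.ιMulti R N (C.x ∘ e)) =
        C.g ^ N • LinearMap.id by
      have := LinearMap.congr_fun h l
      simpa using this
    apply exteriorPower.linearMap_ext
    ext v
    simp only [LinearMap.compAlternatingMap_apply, LinearMap.smulRight_apply,
      LinearMap.smul_apply, LinearMap.id_coe, id_eq, Chart.wedgeα_ιMulti]
    congr 1
    let L : (Fin N → R) →ₗ[R] M := ∑ j, (LinearMap.proj j).smulRight (C.x (e j))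
    have hL : ∀ i, L (fun j => C.f (v i) (e j)) = C.g • v i := by
      intro i
      rw [← C.sum_smul (v i), ← e.sum_comp (fun a => C.f (v i) a • C.x a)]
      simp [L, LinearMap.sum_apply]
    have hL1 : ∀ j, L (Pi.single j 1) = C.x (e j) := by
      intro j
      simp [L, LinearMap.sum_apply, Pi.single_apply]
    have h := alternating_eq_det_smul ((exteriorPower.ιMulti R N).compLinearMap L)
      (fun i j => C.f (v i) (e j))
    simp only [AlternatingMap.compLinearMap_apply, hL, hL1] at h
    rw [AlternatingMap.map_smul_univ, Finset.prod_const, Finset.card_univ, Fintype.card_fin] at h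
    exact h.symm
  α_s := by
    rw [Chart.wedgeα_ιMulti]
    have : (Matrix.of fun i j => C.f ((C.x ∘ e) i) (e j)) = C.g • (1 : Matrix (Fin N) (Fin N) R) := by
      ext i j
      simp [C.f_x, Matrix.one_apply, e.apply_eq_iff_eq]
    rw [this, Matrix.det_smul, Matrix.det_one, Fintype.card_fin, mul_one]

end Det

section Ops

variable {R : Type*} [CommRing R] {L L' : Type*} [AddCommMonoid L] [Module R L] [AddCommMonoid L']
  [Module R L']

/-- Tensor product of two lines. -/
noncomputable def Line.tensor (a : Line R L) (b : Line R L') : Line R (L ⊗[R] L') where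
  c := a.c * b.c
  s := a.s ⊗ₜ b.s
  α := (TensorProduct.lid R R).toLinearMap.comp (TensorProduct.map a.α b.α)
  smul_s l := by
    induction l with
    | zero => simp
    | tmul x y =>
      simp only [LinearMap.comp_apply, TensorProduct.map_tmul, LinearEquiv.coe_coe,
        TensorProduct.lid_tmul, smul_eq_mul]
      rw [← TensorProduct.smul_tmul_smul, a.smul_s, b.smul_s, TensorProduct.smul_tmul_smul]
    | add x y hx hy => rw [map_add, add_smul, hx, hy, smul_add]
  α_s := by simp [a.α_s, b.α_s]

/-- Tensor powers of a line. -/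
noncomputable def Line.pow (a : Line R L) (m : ℕ) : Line R (TensorPower R m L) where
  c := a.c ^ m
  s := PiTensorProduct.tprod R fun _ : Fin m => a.s
  α := PiTensorProduct.lift
    ((MultilinearMap.mkPiAlgebra R (Fin m) R).compLinearMap fun _ => a.α)
  smul_s l := by
    induction l using PiTensorProduct.induction_on with
    | smul_tprod r v =>
      simp only [map_smul, PiTensorProduct.lift.tprod, MultilinearMap.compLinearMap_apply,
        MultilinearMap.mkPiAlgebra_apply]
      rw [smul_assoc, ← MultilinearMap.map_smul_univ,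
        show (fun i => a.α (v i) • a.s) = fun i => a.c • v i from funext fun i => a.smul_s (v i),
        MultilinearMap.map_smul_univ, Finset.prod_const, Finset.card_univ, Fintype.card_fin,
        smul_comm]
    | add x y hx hy => rw [map_add, add_smul, hx, hy, smul_add]
  α_s := by simp [a.α_s]

end Ops

/-- Two modules with lines on a cover, with compatible transition functions, are isomorphic. -/
theorem nonempty_linearEquiv_of_lines {R : Type*} [CommRing R] {L L' : Type*} [AddCommMonoid L]
    [Module R L] [AddCommMonoid L'] [Module R L'] {K : Type*} [Fintype K] (G : K → R)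
    (hG : Ideal.span (Set.range G) = ⊤) (a : K → Line R L) (b : K → Line R L')
    (d : K → ℕ) (ha : ∀ k, (a k).c = G k ^ d k) (hb : ∀ k, (b k).c = G k ^ d k)
    (h : ∀ k l, ∃ N, G k ^ N * ((a k).α (a l).s - (b k).α (b l).s) = 0) :
    Nonempty (L ≃ₗ[R] L') := by
  classical
  choose N hN using h
  let M := ∑ k, ∑ l, N k l
  have hM : ∀ k l, G k ^ M * (a k).α (a l).s = G k ^ M * (b k).α (b l).s := by
    intro k l
    have hle : N k l ≤ M :=
      (Finset.single_le_sum (f := fun l => N k l) (fun _ _ => Nat.zero_le _)
        (Finset.mem_univ l)).trans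
        (Finset.single_le_sum (f := fun k => ∑ l, N k l) (fun _ _ => Nat.zero_le _)
          (Finset.mem_univ k))
    obtain ⟨e, he⟩ := Nat.exists_eq_add_of_le hle
    rw [he, pow_add, ← sub_eq_zero]
    rw [mul_comm (G k ^ N k l), mul_assoc, mul_assoc, ← mul_sub, ← mul_sub, hN, mul_zero]
  have hspan : (1 : R) ∈ Ideal.span (Set.range fun k => G k ^ (M + d k)) := by
    have := Ideal.span_pow_eq_top _ hG (M + ∑ k, d k)
    rw [← Ideal.eq_top_iff_one, eq_top_iff, ← this, Ideal.span_le, ← Set.range_comp]
    rintro _ ⟨k, rfl⟩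
    obtain ⟨e, he⟩ := Nat.exists_eq_add_of_le
      (Finset.single_le_sum (f := d) (fun _ _ => Nat.zero_le _) (Finset.mem_univ k))
    rw [Function.comp_apply, SetLike.mem_coe, he, ← add_assoc, pow_add]
    exact Ideal.mul_mem_right _ _ (Ideal.subset_span ⟨k, rfl⟩)
  obtain ⟨w, hw⟩ := Ideal.mem_span_range_iff_exists_fun.mp hspan
  let Φ : L →ₗ[R] L' := ∑ k, (w k * G k ^ M) • ((a k).α.smulRight (b k).s)
  let Ψ : L' →ₗ[R] L := ∑ k, (w k * G k ^ M) • ((b k).α.smulRight (a k).s)
  have e1 : ∀ l : L, ∑ k, (w k * G k ^ M) • (a k).α l • (a k).s = l := by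
    intro l
    calc ∑ k, (w k * G k ^ M) • (a k).α l • (a k).s
        = ∑ k, (w k * G k ^ (M + d k)) • l := by
          refine Finset.sum_congr rfl fun k _ => ?_
          rw [(a k).smul_s, smul_smul, ha, pow_add, mul_assoc]
      _ = l := by rw [← Finset.sum_smul, hw, one_smul]
  have e2 : ∀ l : L', ∑ k, (w k * G k ^ M) • (b k).α l • (b k).s = l := by
    intro l
    calc ∑ k, (w k * G k ^ M) • (b k).α l • (b k).s
        = ∑ k, (w k * G k ^ (M + d k)) • l := by
          refine Finset.sum_congr rfl fun k _ => ?_
          rw [(b k).smul_s, smul_smul, hb, pow_add, mul_assoc]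
      _ = l := by rw [← Finset.sum_smul, hw, one_smul]
  have hu : ∀ j k, (w j * G j ^ M) • (a j).α (a k).s = (w j * G j ^ M) • (b j).α (b k).s := by
    intro j k
    simp only [smul_eq_mul, mul_assoc, hM]
  have hΦ : ∀ l, Φ l = ∑ k, (w k * G k ^ M) • (a k).α l • (b k).s := by
    intro l
    simp [Φ, LinearMap.sum_apply]
  have hΨ : ∀ l, Ψ l = ∑ k, (w k * G k ^ M) • (b k).α l • (a k).s := by
    intro l
    simp [Ψ, LinearMap.sum_apply]
  have hs1 : ∀ k, Φ (a k).s = (b k).s := by
    intro k
    rw [hΦ]
    refine (Finset.sum_congr rfl fun j _ => ?_).trans (e2 (b k).s)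
    rw [← smul_assoc, ← smul_assoc, hu]
  have hs2 : ∀ k, Ψ (b k).s = (a k).s := by
    intro k
    rw [hΨ]
    refine (Finset.sum_congr rfl fun j _ => ?_).trans (e1 (a k).s)
    rw [← smul_assoc, ← smul_assoc, hu]
  refine ⟨LinearEquiv.ofLinearMap Φ Ψ ?_ ?_⟩ <;> apply LinearMap.ext <;> intro l
  · rw [LinearMap.comp_apply, LinearMap.id_apply, hΨ, map_sum]
    simp only [map_smul, hs1, e2]
  · rw [LinearMap.comp_apply, LinearMap.id_apply, hΦ, map_sum]
    simp only [map_smul, hs2, e1]

end Groth.L15.DetChart
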