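import Groth.Agent.L15.DetChart.Basic
import Mathlib.RingTheory.Norm.Transitivity
import Mathlib.RingTheory.Localization.Away.Basic

/-!
Determinants of block matrices whose blocks come from multiplication in a finite algebra, in a
chart of that algebra.
-/

namespace Groth.L15.DetChart

open Matrix

section Gen

variable {R S : Type*} [CommRing R] [CommRing S] {n k : Type*} [Fintype n] [DecidableEq n]
  [Fintype k] [DecidableEq k]

/-- Determinant of a matrix with blocks `E * T (F a b)`. -/
theorem det_block_mul (T : S →+* Matrix n n R) (E : Matrix n n R) (F : Matrix k k S) :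
    (Matrix.of fun (p q : n × k) => (E * T (F p.2 q.2)) p.1 q.1).det =
      E.det ^ Fintype.card k * (T F.det).det := by
  have h1 : (Matrix.of fun (p q : n × k) => (E * T (F p.2 q.2)) p.1 q.1) =
      (Matrix.compRingEquiv k n R (diagonal (fun _ => E) * F.map T)).submatrix
        (Equiv.prodComm n k) (Equiv.prodComm n k) := by
    ext p q
    simp [Matrix.diagonal_mul, Matrix.comp_apply]
  have h2 : Matrix.compRingEquiv k n R (diagonal fun _ : k => E) =
      (blockDiagonal fun _ : k => E).submatrix (Equiv.prodComm k n) (Equiv.prodComm k n) := by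
    ext ⟨a, i⟩ ⟨b, j⟩
    by_cases hab : a = b <;> simp [blockDiagonal_apply, Matrix.comp_apply, hab]
  rw [h1, det_submatrix_equiv_self, map_mul, det_mul, h2, det_submatrix_equiv_self,
    det_blockDiagonal, Finset.prod_const, Finset.card_univ]
  congr 1
  exact (Matrix.det_det (R := R) F T).symm

end Gen

variable {A B : Type*} [CommRing A] [CommRing B] [Algebra A B] {n : Type*} [Fintype n]
  [DecidableEq n] (C : Chart A B n)

/-- Coordinates of a family of elements of the algebra in a chart. -/
def Chart.mat (y : n → B) : Matrix n n A := Matrix.of fun i j => C.f (y i) j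

theorem Chart.g_mul_f (u v : B) (j : n) :
    C.g * C.f (u * v) j = ∑ i, C.f u i * C.f (C.x i * v) j := by
  have h : C.g • (u * v) = ∑ i, C.f u i • (C.x i * v) := by
    rw [← smul_mul_assoc, ← C.sum_smul u, Finset.sum_mul]
    simp only [smul_mul_assoc]
  have := congrFun (congrArg C.f h) j
  simpa using this

variable (A' : Type*) [CommRing A'] [Algebra A A'] [IsLocalization.Away C.g A']

/-- The regular representation of `B` in the chart, after inverting the constant of the chart. -/
noncomputable def Chart.rep : B →+* Matrix n n A' :=
  let u : A' := IsLocalization.Away.invSelf (S := A') C.g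
  have hu : algebraMap A A' C.g * u = 1 := IsLocalization.Away.mul_invSelf (S := A') C.g
  { toFun := fun β => Matrix.of fun i j => u * algebraMap A A' (C.f (C.x i * β) j)
    map_one' := by
      ext i j
      simp only [mul_one, C.f_x, Matrix.of_apply, map_mul, ← mul_assoc, mul_comm u, hu,
        Matrix.one_apply]
      split <;> simp [hu]
    map_mul' := fun β γ => by
      ext i j
      have h := congrArg (algebraMap A A') (C.g_mul_f (C.x i * β) γ j)
      simp only [map_mul, map_sum] at h
      simp only [Matrix.mul_apply, Matrix.of_apply]
      calc u * algebraMap A A' (C.f (C.x i * (β * γ)) j)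
          = u * u * (algebraMap A A' C.g * algebraMap A A' (C.f (C.x i * β * γ) j)) := by
            rw [mul_assoc u u, ← mul_assoc u (algebraMap A A' C.g), mul_comm u (algebraMap A A' C.g),
              hu, one_mul, mul_assoc (C.x i)]
        _ = _ := by
            rw [h, Finset.mul_sum]
            exact Finset.sum_congr rfl fun l _ => mul_mul_mul_comm u u _ _
    map_zero' := by
      ext i j
      simp
    map_add' := fun β γ => by
      ext i j
      simp [mul_add] }

theorem Chart.map_f_mul (y : n → B) (β : B) (i j : n) :
    algebraMap A A' (C.f (y i * β) j) =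
      ((C.mat y).map (algebraMap A A') * C.rep A' β) i j := by
  have hu : algebraMap A A' C.g * IsLocalization.Away.invSelf (S := A') C.g = 1 :=
    IsLocalization.Away.mul_invSelf (S := A') C.g
  have h := congrArg (algebraMap A A') (C.g_mul_f (y i) β j)
  simp only [map_mul, map_sum] at h
  calc algebraMap A A' (C.f (y i * β) j)
      = IsLocalization.Away.invSelf (S := A') C.g *
          (algebraMap A A' C.g * algebraMap A A' (C.f (y i * β) j)) := by
        rw [← mul_assoc, mul_comm _ (algebraMap A A' C.g), hu, one_mul]
    _ = _ := by
        rw [h, Finset.mul_sum, Matrix.mul_apply]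
        exact Finset.sum_congr rfl fun l _ => mul_left_comm _ _ _

theorem Chart.map_det_mul (y : n → B) (β : B) :
    algebraMap A A' (C.mat fun i => y i * β).det =
      algebraMap A A' (C.mat y).det * (C.rep A' β).det := by
  rw [RingHom.map_det, RingHom.map_det, ← Matrix.det_mul]
  congr 1
  ext i j
  exact C.map_f_mul A' y β i j

omit A' in
/-- Multiplicativity, up to torsion for the constant of the chart. -/
theorem Chart.exists_pow_mul_det_mul (y : n → B) (β γ : B) :
    ∃ N, C.g ^ N * ((C.mat y).det * (C.mat fun i => y i * (β * γ)).det -
      (C.mat fun i => y i * β).det * (C.mat fun i => y i * γ).det) = 0 := by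
  have h : algebraMap A (Localization.Away C.g)
      ((C.mat y).det * (C.mat fun i => y i * (β * γ)).det) =
      algebraMap A (Localization.Away C.g)
      ((C.mat fun i => y i * β).det * (C.mat fun i => y i * γ).det) := by
    rw [map_mul, map_mul, C.map_det_mul, C.map_det_mul, C.map_det_mul, map_mul, Matrix.det_mul]
    ac_rfl
  obtain ⟨⟨_, N, rfl⟩, hN⟩ := IsLocalization.exists_of_eq (M := Submonoid.powers C.g) h
  exact ⟨N, by rw [mul_sub, sub_eq_zero]; exact hN⟩

omit A' in
/-- The determinant of determinants, up to torsion for the constant of the chart. -/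
theorem Chart.exists_pow_mul_det_det {k : Type*} [Fintype k] [DecidableEq k] (m : ℕ)
    (hm : Fintype.card k = m + 1) (y : n → B) (F : Matrix k k B) :
    ∃ N, C.g ^ N * ((Matrix.of fun (p q : n × k) => C.f (y p.1 * F p.2 q.2) q.1).det -
      (C.mat y).det ^ m * (C.mat fun i => y i * F.det).det) = 0 := by
  have h : algebraMap A (Localization.Away C.g)
      (Matrix.of fun (p q : n × k) => C.f (y p.1 * F p.2 q.2) q.1).det =
      algebraMap A (Localization.Away C.g)
      ((C.mat y).det ^ m * (C.mat fun i => y i * F.det).det) := by
    have e : (Matrix.of fun (p q : n × k) => C.f (y p.1 * F p.2 q.2) q.1).map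
        (algebraMap A (Localization.Away C.g)) =
        Matrix.of fun (p q : n × k) => ((C.mat y).map (algebraMap A (Localization.Away C.g)) *
          C.rep (Localization.Away C.g) (F p.2 q.2)) p.1 q.1 := by
      ext p q
      exact C.map_f_mul (Localization.Away C.g) y _ _ _
    rw [RingHom.map_det, RingHom.mapMatrix_apply, e, det_block_mul, hm, map_mul, map_pow,
      C.map_det_mul, RingHom.map_det, RingHom.mapMatrix_apply, pow_succ, mul_assoc]
  obtain ⟨⟨_, N, rfl⟩, hN⟩ := IsLocalization.exists_of_eq (M := Submonoid.powers C.g) h
  exact ⟨N, by rw [mul_sub, sub_eq_zero]; exact hN⟩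

end Groth.L15.DetChart
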