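import Groth.Agent.L15.DetChart.Basic
import Mathlib.RingTheory.Spectrum.Prime.FreeLocus
import Mathlib.RingTheory.LocalRing.Module
import Mathlib.RingTheory.QuasiFinite.Basic
import Mathlib.RingTheory.TensorProduct.Basic

/-!
Existence of charts near a prime of the base, and operations on charts.
-/

open TensorProduct

namespace Groth.L15.DetChart

section Exist

variable {R : Type*} [CommRing R] {M : Type*} [AddCommGroup M] [Module R M]
  [Module.FinitePresentation R M]

/-- A basis of a localization spreads out to a chart. -/
theorem exists_chart_of_basis (S : Submonoid R) {ι : Type*} [Fintype ι] [DecidableEq ι]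
    (b : Module.Basis ι (Localization S) (LocalizedModule S M)) :
    ∃ C : Chart R M ι, C.g ∈ S := by
  classical
  choose t ht using fun i => IsLocalizedModule.surj S (LocalizedModule.mkLinearMap S M) (b i)
  let x : ι → M := fun i => (t i).1
  let mk := LocalizedModule.mkLinearMap S M
  let u : ι → (Localization S)ˣ := fun i =>
    (IsLocalization.map_units (Localization S) (t i).2).unit
  let b' := b.unitsSMul u
  have hb' : ∀ i, b' i = mk (x i) := by
    intro i
    rw [show mk (x i) = (t i).2 • b i from (ht i).symm, Module.Basis.unitsSMul_apply, Units.smul_def,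
      IsUnit.unit_spec, algebraMap_smul, Submonoid.smul_def]
  let φ : M →ₗ[R] (ι → Localization S) :=
    (b'.equivFun.toLinearMap.restrictScalars R).comp mk
  let loc : (ι → R) →ₗ[R] (ι → Localization S) :=
    LinearMap.pi fun i => (Algebra.linearMap R (Localization S)).comp (LinearMap.proj i)
  obtain ⟨f, s, hf⟩ := Module.FinitePresentation.exists_lift_of_isLocalizedModule S loc φ
  have hf' : ∀ m i, algebraMap R (Localization S) (f m i) =
      algebraMap R (Localization S) s * φ m i := by
    intro m i
    have := congrFun (LinearMap.congr_fun hf m) i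
    simpa [loc, Submonoid.smul_def, Algebra.smul_def] using this
  let D : M →ₗ[R] M :=
    (∑ i, ((LinearMap.proj i).comp f).smulRight (x i)) - (s : R) • LinearMap.id
  have hD : ∀ m, mk (D m) = 0 := by
    intro m
    have h := b'.sum_equivFun (mk m)
    simp only [D, LinearMap.sub_apply, LinearMap.sum_apply, map_sub, map_sum,
      LinearMap.smulRight_apply, LinearMap.comp_apply, LinearMap.proj_apply, LinearMap.smul_apply,
      LinearMap.id_apply, map_smul, ← hb']
    rw [sub_eq_zero]
    conv_rhs => rw [← h, Finset.smul_sum]
    refine Finset.sum_congr rfl fun i _ => ?_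
    rw [← algebraMap_smul (Localization S) (f m i), hf', mul_smul, algebraMap_smul]
    rfl
  obtain ⟨gen, hgen⟩ := Module.finite_def.mp (inferInstance : Module.Finite R M)
  choose c hc using fun m => (IsLocalizedModule.eq_zero_iff S mk).mp (hD m)
  let u₁ : S := ∏ m ∈ gen, c m
  have hu₁ : ∀ m, (u₁ : R) • D m = 0 := by
    have : (gen : Set M) ⊆ LinearMap.ker ((u₁ : R) • D) := by
      intro m hm
      simp only [SetLike.mem_coe, LinearMap.mem_ker, LinearMap.smul_apply]
      obtain ⟨e, he⟩ := Finset.dvd_prod_of_mem c hm
      rw [show u₁ = c m * e from he, Submonoid.coe_mul, mul_comm, mul_smul,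
        show (c m : R) • D m = 0 from hc m, smul_zero]
    intro m
    have h2 : Submodule.span R (gen : Set M) ≤ LinearMap.ker ((u₁ : R) • D) := Submodule.span_le.mpr this
    rw [hgen] at h2
    exact LinearMap.mem_ker.mp (h2 (Submodule.mem_top : m ∈ ⊤))
  have hd : ∀ i j, algebraMap R (Localization S) (f (x i) j - s * (if i = j then 1 else 0)) = 0 := by
    intro i j
    rw [map_sub, hf', map_mul]
    have : φ (x i) j = if i = j then 1 else 0 := by
      simp [φ, ← hb', Finsupp.single_apply]
    rw [this]
    split <;> simp
  choose d hd' using fun i j => (IsLocalization.map_eq_zero_iff S (Localization S) _).mp (hd i j)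
  let u₂ : S := ∏ i, ∏ j, d i j
  have hu₂ : ∀ i j, (u₂ : R) * (f (x i) j - s * (if i = j then 1 else 0)) = 0 := by
    intro i j
    obtain ⟨e, he⟩ := (Finset.dvd_prod_of_mem (d i) (Finset.mem_univ j)).trans
      (Finset.dvd_prod_of_mem (fun i => ∏ j, d i j) (Finset.mem_univ i))
    rw [show u₂ = d i j * e from he, Submonoid.coe_mul, mul_comm (d i j : R), mul_assoc, hd',
      mul_zero]
  refine ⟨⟨u₁ * u₂ * s, x, ((u₁ : R) * u₂) • f, fun m => ?_, fun i j => ?_⟩,
    S.mul_mem (S.mul_mem u₁.2 u₂.2) s.2⟩
  · have h := hu₁ m
    simp only [D, LinearMap.sub_apply, LinearMap.sum_apply, LinearMap.smulRight_apply,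
      LinearMap.comp_apply, LinearMap.proj_apply, LinearMap.smul_apply, LinearMap.id_apply,
      smul_sub, sub_eq_zero] at h
    simp only [LinearMap.smul_apply, Pi.smul_apply, smul_assoc, ← Finset.smul_sum]
    rw [mul_comm (u₁ : R) u₂, mul_smul, h, mul_smul, mul_smul]
  · have h := hu₂ i j
    rw [mul_sub, sub_eq_zero] at h
    simp only [LinearMap.smul_apply, Pi.smul_apply, smul_eq_mul, mul_assoc, h]

end Exist

section Algebra

variable (A : Type*) [CommRing A] (B : Type*) [CommRing B] [Algebra A B] [Module.Finite A B]

/-- A finite algebra localized at the complement of a prime of the base is semilocal. -/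
theorem finite_maximalSpectrum (q : Ideal A) [q.IsPrime] :
    Finite (MaximalSpectrum (Localization (Algebra.algebraMapSubmonoid B q.primeCompl))) := by
  let B' := Localization (Algebra.algebraMapSubmonoid B q.primeCompl)
  have key : ∀ P : MaximalSpectrum B', P.asIdeal.comap (algebraMap B B') ∈ q.primesOver B := by
    intro P
    have hp := (IsLocalization.isPrime_iff_isPrime_disjoint
      (Algebra.algebraMapSubmonoid B q.primeCompl) B' P.asIdeal).mp P.isMaximal.isPrime
    refine ⟨hp.1, ?_⟩
    have hle : (P.asIdeal.comap (algebraMap B B')).comap (algebraMap A B) ≤ q := by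
      intro a ha
      by_contra hq
      exact Set.disjoint_left.mp hp.2 ⟨a, hq, rfl⟩ ha
    have := hp.1
    obtain ⟨Q, hQle, hQp, hQ⟩ := Ideal.exists_ideal_over_prime_of_isIntegral q _ hle
    have hdis : Disjoint (Algebra.algebraMapSubmonoid B q.primeCompl : Set B) Q := by
      rw [Set.disjoint_left]
      rintro _ ⟨a, ha, rfl⟩ haQ
      exact ha (hQ.le haQ)
    have hQ' := IsLocalization.isPrime_of_isPrime_disjoint _ B' Q hQp hdis
    have heq : P.asIdeal = Q.map (algebraMap B B') := by
      refine P.isMaximal.eq_of_le hQ'.ne_top ?_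
      rw [← IsLocalization.map_comap (Algebra.algebraMapSubmonoid B q.primeCompl) B' P.asIdeal]
      exact Ideal.map_mono hQle
    constructor
    rw [Ideal.under_def, heq, ← Ideal.under_def (A := B),
      IsLocalization.under_map_of_isPrime_disjoint _ B' hQp hdis]
    exact hQ.symm
  have : Finite (q.primesOver B) := (Algebra.QuasiFinite.finite_primesOver q).to_subtype
  refine Finite.of_injective (fun P => (⟨_, key P⟩ : q.primesOver B)) fun P P' h => ?_
  apply MaximalSpectrum.ext
  exact ((IsLocalization.map_comap (Algebra.algebraMapSubmonoid B q.primeCompl) B' P.asIdeal).symm.trans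
    (congrArg (fun I => Ideal.map (algebraMap B B') I) (Subtype.mk.inj h))).trans
    (IsLocalization.map_comap (Algebra.algebraMapSubmonoid B q.primeCompl) B' P'.asIdeal)

variable {B} in
theorem exists_chart_base [Module.Projective A B] {n : ℕ}
    (hn : ∀ q : PrimeSpectrum A,
      Module.finrank (Localization.AtPrime q.asIdeal) (LocalizedModule q.asIdeal.primeCompl B) = n)
    (q : PrimeSpectrum A) : ∃ C : Chart A B (Fin n), C.g ∉ q.asIdeal := by
  have := Module.finitePresentation_of_projective A B
  have : Module.Free (Localization.AtPrime q.asIdeal) (LocalizedModule q.asIdeal.primeCompl B) :=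
    Module.free_of_flat_of_isLocalRing
  exact exists_chart_of_basis q.asIdeal.primeCompl (Module.finBasisOfFinrankEq _ _ (hn q))

variable {B} in
theorem exists_chart_module (M : Type*) [AddCommGroup M] [Module B M] [Module.Finite B M]
    [Module.Projective B M] {k : ℕ}
    (hM : ∀ q : PrimeSpectrum B,
      Module.finrank (Localization.AtPrime q.asIdeal) (LocalizedModule q.asIdeal.primeCompl M) = k)
    (q : PrimeSpectrum A) :
    ∃ (h : A) (_ : h ∉ q.asIdeal) (D : Chart B M (Fin k)), D.g = algebraMap A B h := by
  have := Module.finitePresentation_of_projective B M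
  let S := Algebra.algebraMapSubmonoid B q.asIdeal.primeCompl
  let B' := Localization S
  let M' := LocalizedModule S M
  have : Finite (MaximalSpectrum B') := finite_maximalSpectrum A B q.asIdeal
  have hbc : IsBaseChange B' (LocalizedModule.mkLinearMap S M) :=
    (isLocalizedModule_iff_isBaseChange S B' _).mp inferInstance
  have : Module.Finite B' M' := Module.Finite.equiv hbc.equiv
  have : Module.Projective B' M' := Module.Projective.of_equiv hbc.equiv
  have hrk : ∀ P : MaximalSpectrum B',
      Module.finrank (B' ⧸ P.asIdeal) ((B' ⧸ P.asIdeal) ⊗[B'] M') = k := by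
    intro P
    let := Ideal.Quotient.field P.asIdeal
    rw [← hM (P.toPrimeSpectrum.comap (algebraMap B B')), ← Module.finrank_baseChange
      (R := P.asIdeal.ResidueField) (S := B' ⧸ P.asIdeal),
      (AlgebraTensorModule.cancelBaseChange B' (B' ⧸ P.asIdeal) P.asIdeal.ResidueField
        P.asIdeal.ResidueField M').finrank_eq]
    exact (Module.rankAtStalk_eq (R := B') (M := M') P.toPrimeSpectrum).symm.trans
      (Module.rankAtStalk_isBaseChange hbc P.toPrimeSpectrum)
  obtain ⟨b⟩ := Module.nonempty_basis_of_flat_of_finrank_eq B' M' k hrk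
  obtain ⟨D, hD⟩ := exists_chart_of_basis S b
  obtain ⟨h, hh, he⟩ := hD
  exact ⟨h, hh, D, he.symm⟩

end Algebra

section Ops

variable {A B : Type*} [CommRing A] [CommRing B] [Algebra A B]

/-- A line is a chart with one index. -/
def Line.chart {R L : Type*} [CommRing R] [AddCommGroup L] [Module R L] (a : Line R L) :
    Chart R L (Fin 1) where
  g := a.c
  x _ := a.s
  f := LinearMap.pi fun _ => a.α
  sum_smul m := by simp [a.smul_s]
  f_x i j := by simp [a.α_s, Subsingleton.elim i j]

/-- A rank one chart is a line. -/
def Chart.line {R L : Type*} [CommRing R] [AddCommGroup L] [Module R L] (D : Chart R L (Fin 1)) :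
    Line R L where
  c := D.g
  s := D.x 0
  α := (LinearMap.proj 0).comp D.f
  smul_s m := by simpa using D.sum_smul m
  α_s := by simpa using D.f_x 0 0

variable {M : Type*} [AddCommGroup M] [Module B M] [Module A M] [IsScalarTower A B M]

/-- Composition of a chart of `B` over `A` and of a chart of `M` over `B`. -/
def Chart.comp {ι κ : Type*} [Fintype ι] [DecidableEq ι] [Fintype κ] [DecidableEq κ]
    (C : Chart A B ι) (D : Chart B M κ) (h : A) (hh : D.g = algebraMap A B h) :
    Chart A M (ι × κ) where
  g := C.g * h
  x p := C.x p.1 • D.x p.2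
  f := LinearMap.pi fun p => (LinearMap.proj p.1).comp
    (C.f.comp ((LinearMap.proj p.2).comp (D.f.restrictScalars A)))
  sum_smul m := by
    simp only [LinearMap.pi_apply, LinearMap.comp_apply, LinearMap.proj_apply,
      LinearMap.restrictScalars_apply, Fintype.sum_prod_type_right, ← smul_assoc, ← Finset.sum_smul,
      C.sum_smul]
    simp only [smul_assoc, ← Finset.smul_sum, D.sum_smul, hh, algebraMap_smul, ← mul_smul]
  f_x p q := by
    simp only [LinearMap.pi_apply, LinearMap.comp_apply, LinearMap.proj_apply,
      LinearMap.restrictScalars_apply, map_smul, Pi.smul_apply, D.f_x, hh]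
    by_cases h2 : p.2 = q.2
    · rw [if_pos h2, mul_one, smul_eq_mul, mul_comm, ← Algebra.smul_def, map_smul, Pi.smul_apply,
        C.f_x]
      by_cases h1 : p.1 = q.1 <;> simp [h1, h2, Prod.ext_iff, mul_comm]
    · simp [h2, Prod.ext_iff]

theorem Chart.comp_f {ι κ : Type*} [Fintype ι] [DecidableEq ι] [Fintype κ] [DecidableEq κ]
    (C : Chart A B ι) (D : Chart B M κ) (h : A) (hh : D.g = algebraMap A B h) (y : B) (m : M)
    (p : ι × κ) : (C.comp D h hh).f (y • m) p = C.f (y * D.f m p.2) p.1 := by
  simp [Chart.comp]

end Ops

end Groth.L15.DetChart
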