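import Groth.Agent.L15.DetChart.Compat
import Groth.Agent.L15.DetChart.Exist

/-!
Determinant of the push forward of a projective module along a finite projective algebra.
-/

open TensorProduct

namespace Groth.L15.DetChart

variable {A B : Type*} [CommRing A] [CommRing B] [Algebra A B] {n : ℕ}

/-- The cover by the good opens of the charts. -/
theorem exists_cover {G : PrimeSpectrum A → A} (hG : ∀ q : PrimeSpectrum A, G q ∉ q.asIdeal) :
    ∃ s : Finset (PrimeSpectrum A), Ideal.span (Set.range fun q : s => G q) = ⊤ := by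
  have h : Ideal.span (Set.range G) = ⊤ := by
    by_contra hne
    obtain ⟨m, hm, hle⟩ := Ideal.exists_le_maximal _ hne
    exact hG ⟨m, hm.isPrime⟩ (hle (Ideal.subset_span ⟨_, rfl⟩))
  obtain ⟨c, hc⟩ := Finsupp.mem_span_range_iff_exists_finsupp.mp ((Ideal.eq_top_iff_one _).mp h)
  refine ⟨c.support, (Ideal.eq_top_iff_one _).mpr ?_⟩
  rw [← hc]
  exact Ideal.sum_mem _ fun q hq => Ideal.mul_mem_left _ _ (Ideal.subset_span ⟨⟨q, hq⟩, rfl⟩)

theorem exists_pow_mul_eq_of_dvd {g h a b : A} (e : ∃ N, g ^ N * (a - b) = 0) :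
    ∃ N, (g * h) ^ N * (a - b) = 0 := by
  obtain ⟨N, hN⟩ := e
  exact ⟨N, by rw [mul_pow, mul_comm (g ^ N), mul_assoc, hN, mul_zero]⟩

theorem det_wedge_aux {R M ι : Type*} [CommRing R] [AddCommGroup M] [Module R M] [Fintype ι]
    [DecidableEq ι] (C : Chart R M ι) {N : ℕ} (e : Fin N ≃ ι) (v : ι → M) :
    C.wedgeα e (exteriorPower.ιMulti R N (v ∘ e)) =
      (Matrix.of fun i j => C.f (v i) j).det := by
  rw [Chart.wedgeα_ιMulti]
  exact Matrix.det_submatrix_equiv_self e (Matrix.of fun i j => C.f (v i) j)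

theorem det_comp_line {M : Type*} [AddCommGroup M] [Module B M] [Module A M] [IsScalarTower A B M]
    (C : Chart A B (Fin n)) (L : Line B M) (h : A) (hh : L.c = algebraMap A B h)
    (y : Fin n → B) (z : M) :
    (C.comp L.chart h hh).wedgeα (Equiv.prodUnique (Fin n) (Fin 1)).symm
        (exteriorPower.ιMulti A n ((fun p : Fin n × Fin 1 => y p.1 • z) ∘
          (Equiv.prodUnique (Fin n) (Fin 1)).symm)) =
      (C.mat fun i => y i * L.α z).det := by
  rw [Chart.wedgeα_ιMulti]
  congr 1
  ext i j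
  simp only [Matrix.of_apply, Function.comp_apply, Chart.comp_f]
  rfl

variable [Module.Finite A B] [Module.Projective A B]

theorem nonempty_det_equiv
    (hn : ∀ q : PrimeSpectrum A,
      Module.finrank (Localization.AtPrime q.asIdeal) (LocalizedModule q.asIdeal.primeCompl B) = n)
    (M : Type*) [AddCommGroup M] [Module B M] [Module A M] [IsScalarTower A B M]
    [Module.Finite B M] [Module.Projective B M] {k : ℕ} (hk : 1 ≤ k)
    (hM : ∀ q : PrimeSpectrum B,
      Module.finrank (Localization.AtPrime q.asIdeal) (LocalizedModule q.asIdeal.primeCompl M) = k) :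
    Nonempty ((⋀[A]^(n * k) M) ≃ₗ[A]
      (TensorPower A (k - 1) (⋀[A]^n B)) ⊗[A] (⋀[A]^n (⋀[B]^k M))) := by
  obtain ⟨m, rfl⟩ : ∃ m, k = m + 1 := ⟨k - 1, (Nat.sub_add_cancel hk).symm⟩
  choose C hC using exists_chart_base A hn
  choose h hh D hD using exists_chart_module A M hM
  obtain ⟨s, hs⟩ := exists_cover (G := fun q => (C q).g * h q)
    fun q hq => (q.isPrime.mem_or_mem hq).elim (hC q) (hh q)
  let L : s → Line B (⋀[B]^(m + 1) M) := fun q => (D q).wedge (Equiv.refl _)
  have hL : ∀ q, (L q).c = algebraMap A B (h q ^ (m + 1)) := fun q => by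
    simp [L, Chart.wedge, hD]
  refine nonempty_linearEquiv_of_lines (fun q : s => (C q).g * h q) hs
    (fun q => ((C q).comp (D q) (h q) (hD q)).wedge finProdFinEquiv.symm)
    (fun q => (((C q).wedge (Equiv.refl _)).pow (m + 1 - 1)).tensor
      (((C q).comp (L q).chart (h q ^ (m + 1)) (hL q)).wedge
        (Equiv.prodUnique (Fin n) (Fin 1)).symm))
    (fun _ => n * (m + 1)) (fun q => rfl) (fun q => ?_) (fun q r => ?_)
  · show ((C q).g ^ n) ^ (m + 1 - 1) * ((C q).g * h q ^ (m + 1)) ^ n =
      ((C q).g * h q) ^ (n * (m + 1))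
    simp only [mul_pow, ← pow_mul, Nat.add_sub_cancel, ← mul_assoc, ← pow_add]
    rw [show n * m + n = n * (m + 1) from rfl, Nat.mul_comm (m + 1) n]
  · refine exists_pow_mul_eq_of_dvd ?_
    let y := (C r).x
    let F : Matrix (Fin (m + 1)) (Fin (m + 1)) B := Matrix.of fun a b => (D q).f ((D r).x a) b
    obtain ⟨N, hN⟩ := (C q).exists_pow_mul_det_det m (Fintype.card_fin _) y F
    refine ⟨N, ?_⟩
    rw [← hN]
    congr 2
    · refine (det_wedge_aux ((C q).comp (D q) (h q) (hD q)) finProdFinEquiv.symm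
        (fun p => y p.1 • (D r).x p.2)).trans ?_
      congr 1
      ext p p'
      exact Chart.comp_f (C q) (D q) (h q) (hD q) (y p.1) ((D r).x p.2) p'
    · simp only [Line.tensor, Line.pow, LinearMap.comp_apply, TensorProduct.map_tmul,
        LinearEquiv.coe_coe, TensorProduct.lid_tmul, smul_eq_mul, PiTensorProduct.lift.tprod,
        MultilinearMap.compLinearMap_apply, MultilinearMap.mkPiAlgebra_apply, Finset.prod_const,
        Finset.card_univ, Fintype.card_fin, Nat.add_sub_cancel]
      congr 1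
      · congr 1
        exact det_wedge_aux (C q) (Equiv.refl _) y
      · refine (det_comp_line (C q) (L q) _ (hL q) y (L r).s).trans ?_
        have e : (L q).α (L r).s = F.det := det_wedge_aux (D q) (Equiv.refl _) (D r).x
        rw [e]

theorem nonempty_det_tensor_equiv
    (hn : ∀ q : PrimeSpectrum A,
      Module.finrank (Localization.AtPrime q.asIdeal) (LocalizedModule q.asIdeal.primeCompl B) = n)
    (M₁ M₂ : Type*) [AddCommGroup M₁] [Module B M₁] [Module A M₁] [IsScalarTower A B M₁]
    [AddCommGroup M₂] [Module B M₂] [Module A M₂] [IsScalarTower A B M₂]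
    [Module.Finite B M₁] [Module.Projective B M₁] [Module.Finite B M₂] [Module.Projective B M₂]
    (h₁ : ∀ q : PrimeSpectrum B,
      Module.finrank (Localization.AtPrime q.asIdeal) (LocalizedModule q.asIdeal.primeCompl M₁) = 1)
    (h₂ : ∀ q : PrimeSpectrum B,
      Module.finrank (Localization.AtPrime q.asIdeal) (LocalizedModule q.asIdeal.primeCompl M₂) = 1) :
    Nonempty ((⋀[A]^n B) ⊗[A] (⋀[A]^n (M₁ ⊗[B] M₂)) ≃ₗ[A] (⋀[A]^n M₁) ⊗[A] (⋀[A]^n M₂)) := by
  choose C hC using exists_chart_base A hn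
  choose a ha D₁ hD₁ using exists_chart_module A M₁ h₁
  choose b hb D₂ hD₂ using exists_chart_module A M₂ h₂
  obtain ⟨s, hs⟩ := exists_cover (G := fun q => (C q).g * ((C q).g * (a q * b q))) fun q hq =>
    (q.isPrime.mem_or_mem hq).elim (hC q) fun hq' => (q.isPrime.mem_or_mem hq').elim (hC q)
      fun hq'' => (q.isPrime.mem_or_mem hq'').elim (ha q) (hb q)
  let e := (Equiv.prodUnique (Fin n) (Fin 1)).symm
  have hab : ∀ q : s, ((D₁ q).line.tensor (D₂ q).line).c = algebraMap A B (a q * b q) := fun q => by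
    simp [Line.tensor, Chart.line, hD₁, hD₂]
  have h1 : ∀ q : s, (D₁ q).line.c = algebraMap A B (a q) := fun q => hD₁ q
  have h2 : ∀ q : s, (D₂ q).line.c = algebraMap A B (b q) := fun q => hD₂ q
  refine nonempty_linearEquiv_of_lines (fun q : s => (C q).g * ((C q).g * (a q * b q))) hs
    (fun q => ((C q).wedge (Equiv.refl _)).tensor
      (((C q).comp ((D₁ q).line.tensor (D₂ q).line).chart (a q * b q) (hab q)).wedge e))
    (fun q => (((C q).comp (D₁ q).line.chart (a q) (h1 q)).wedge e).tensor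
      (((C q).comp (D₂ q).line.chart (b q) (h2 q)).wedge e))
    (fun _ => n)
    (fun q => ?_) (fun q => ?_) (fun q r => ?_)
  · show (C q).g ^ n * ((C q).g * (a q * b q)) ^ n = ((C q).g * ((C q).g * (a q * b q))) ^ n
    exact (mul_pow _ _ _).symm
  · show ((C q).g * a q) ^ n * ((C q).g * b q) ^ n = ((C q).g * ((C q).g * (a q * b q))) ^ n
    rw [← mul_pow, mul_mul_mul_comm, mul_assoc]
  · refine exists_pow_mul_eq_of_dvd ?_
    let y := (C r).x
    let β := (D₁ q).line.α (D₁ r).line.s
    let γ := (D₂ q).line.α (D₂ r).line.s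
    obtain ⟨N, hN⟩ := (C q).exists_pow_mul_det_mul y β γ
    refine ⟨N, ?_⟩
    rw [← hN]
    congr 2
    · simp only [Line.tensor, LinearMap.comp_apply, TensorProduct.map_tmul, LinearEquiv.coe_coe,
        TensorProduct.lid_tmul, smul_eq_mul]
      congr 1
      · exact det_wedge_aux (C q) (Equiv.refl _) y
      · refine (det_comp_line (C q) ((D₁ q).line.tensor (D₂ q).line) _ (hab q) y
          ((D₁ r).line.s ⊗ₜ (D₂ r).line.s)).trans ?_
        simp [Line.tensor, β, γ]
    · simp only [Line.tensor, LinearMap.comp_apply, TensorProduct.map_tmul, LinearEquiv.coe_coe,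
        TensorProduct.lid_tmul, smul_eq_mul]
      congr 1
      · exact det_comp_line (C q) (D₁ q).line _ (h1 q) y (D₁ r).line.s
      · exact det_comp_line (C q) (D₂ q).line _ (h2 q) y (D₂ r).line.s

end Groth.L15.DetChart
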